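import Groth.Agent.AmpleVan.LiftFibre
import Groth.Agent.ExtShX.ClosedHom
import Groth.Agent.KRRReg.LamPull
import Groth.Agent.Lib.CurveStable

/-!
# Sheaf Hom of bundles and restriction to a closed subscheme
-/

set_option linter.style.haveILetI false
set_option linter.unusedSectionVars false
set_option backward.isDefEq.respectTransparency false
set_option backward.isDefEq.respectTransparency.types false

universe u

open CategoryTheory CategoryTheory.Limits AlgebraicGeometry TopologicalSpace Opposite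

noncomputable section

namespace Groth.Agent.FamHom

open Groth.Agent SheafHomX ExtShX.ClosedHom ExtShX

attribute [local instance] QCoh.hasFiniteBiproducts

variable {P : Scheme.{u}}

theorem isFinLocFreeOfRank_hom {a b : ℕ} {E E' : P.Modules} (hE : FlatMod.IsFinLocFreeOfRank a E)
    (hE' : FlatMod.IsFinLocFreeOfRank b E') : FlatMod.IsFinLocFreeOfRank (a * b) ((hom E).obj E') := by
  intro x
  obtain ⟨U, hxU, ⟨e⟩⟩ := hE x
  obtain ⟨V, hxV, ⟨e'⟩⟩ := hE' x
  let W : P.Opens := U ⊓ V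
  have eW : (E.restrict W.ι) ≅ FlatMod.freeMod W a := KFlatLib.restrictFreeIso inf_le_left e
  have eW' : (E'.restrict W.ι) ≅ FlatMod.freeMod W b := KFlatLib.restrictFreeIso inf_le_right e'
  let T : ULift.{u} (Fin a) → (W : Scheme.{u}).Modules := fun _ => Coh.structureModule W
  let f : FlatMod.freeMod W a ≅ ⨁ T :=
    QCoh.freeModIso _ a ≪≫ (biproduct.isoCoproduct T).symm
  let g : E.restrict W.ι ≅ ⨁ T := eW ≪≫ f
  let c : (hom (E.restrict W.ι)).obj (E'.restrict W.ι) ≅ (hom (⨁ T)).obj (E'.restrict W.ι) :=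
    { hom := (homMap g.inv).app _
      inv := (homMap g.hom).app _
      hom_inv_id := by rw [← homMap_comp, Iso.hom_inv_id, homMap_id]
      inv_hom_id := by rw [← homMap_comp, Iso.inv_hom_id, homMap_id] }
  let d : (hom (⨁ T)).obj (E'.restrict W.ι) ≅ ⨁ fun _ : ULift.{u} (Fin a) => E'.restrict W.ι :=
    homBiproductIso T _ ≪≫ biproduct.mapIso fun _ => (unitIso _).app _
  let q : (⨁ fun _ : ULift.{u} (Fin a) => E'.restrict W.ι) ≅ ∐ fun _ : ULift.{u} (Fin a) => FlatMod.freeMod W b :=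
    biproduct.isoCoproduct _ ≪≫ Sigma.mapIso fun _ => eW'
  let s : (∐ fun _ : ULift.{u} (Fin a) => FlatMod.freeMod W b) ≅
      ∐ fun p : Σ _ : ULift.{u} (Fin a), ULift.{u} (Fin b) => Coh.structureModule W :=
    Sigma.mapIso (fun _ => QCoh.freeModIso _ b) ≪≫ sigmaSigmaIso (fun _ : ULift.{u} (Fin a) => ULift.{u} (Fin b)) (fun _ _ => Coh.structureModule W)
  let r : (∐ fun p : Σ _ : ULift.{u} (Fin a), ULift.{u} (Fin b) => Coh.structureModule W) ≅ FlatMod.freeMod W (a * b) :=
    (Sigma.whiskerEquiv (f := fun _ : Σ _ : ULift.{u} (Fin a), ULift.{u} (Fin b) => Coh.structureModule W)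
      (g := fun _ : ULift.{u} (Fin (a * b)) => Coh.structureModule W)
      (((Equiv.sigmaEquivProd _ _).trans (Equiv.prodCongr Equiv.ulift Equiv.ulift)).trans (finProdFinEquiv.trans Equiv.ulift.symm))
      (fun _ => Iso.refl _)) ≪≫ (QCoh.freeModIso _ (a * b)).symm
  exact ⟨W, ⟨hxU, hxV⟩, ⟨(restrictIso W.ι E).app E' ≪≫ c ≪≫ d ≪≫ q ≪≫ s ≪≫ r⟩⟩

/-- Restriction to a closed subscheme is onto. -/
theorem epi_unit {X : Scheme.{u}} (ι : X ⟶ P) [IsClosedImmersion ι] (F : P.Modules) :
    Epi ((Scheme.Modules.pullbackPushforwardAdjunction ι).unit.app F) := by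
  let G := (Scheme.Modules.pullback ι).obj F
  refine RelTildeX.epi_of_locally _ fun U t y hy => ?_
  by_cases hr : y ∈ Set.range ι.base
  · obtain ⟨x, rfl⟩ := hr
    obtain ⟨f₀, hf₀⟩ := bar_surjective ι F x (G.presheaf.germ (ι ⁻¹ᵁ U) x hy t)
    obtain ⟨V₀, hV₀, s, rfl⟩ := F.presheaf.exists_germ_eq (x := ι x) f₀
    rw [bar_germ] at hf₀
    obtain ⟨W, hxW, i₁, i₂, he⟩ := G.presheaf.germ_eq x hV₀ hy _ _ hf₀
    obtain ⟨O, hO, hOW⟩ := (IsClosedImmersion.base_closed (f := ι)).isInducing.isOpen_iff.1 W.2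
    let Q : P.Opens := V₀ ⊓ U ⊓ ⟨O, hO⟩
    have hxQ : ι x ∈ Q := ⟨⟨hV₀, hy⟩, by
      exact (Set.ext_iff.1 hOW x).2 hxW⟩
    have hQW : ι ⁻¹ᵁ Q ≤ W := fun z hz => by
      exact (Set.ext_iff.1 hOW z).1 hz.2
    refine ⟨Q, fun z hz => hz.1.2, hxQ, F.presheaf.map (homOfLE (fun z hz => hz.1.1 : Q ≤ V₀)).op s, ?_⟩
    refine (ExtPowSh.map_appL ((Scheme.Modules.pullbackPushforwardAdjunction ι).unit.app F)
      (fun z hz => hz.1.1 : Q ≤ V₀) s).symm.trans ?_
    show G.presheaf.map (homOfLE (ι.preimage_mono (fun z hz => hz.1.1 : Q ≤ V₀))).op (OmegaSh.pullSect ι F V₀ s) =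
      G.presheaf.map (homOfLE (ι.preimage_mono (fun z hz => hz.1.2 : Q ≤ U))).op t
    have he1 : AModX.res G i₁.le (OmegaSh.pullSect ι F V₀ s) = AModX.res G i₂.le t := he
    have he' := congrArg (AModX.res G hQW) he1
    rw [AModX.res_res, AModX.res_res] at he'
    exact he'
  · let Q : P.Opens := U ⊓ ⟨(Set.range ι.base)ᶜ, (IsClosedImmersion.base_closed (f := ι)).isClosed_range.isOpen_compl⟩
    refine ⟨Q, inf_le_left, ⟨hy, hr⟩, 0, ?_⟩
    have hbot : ι ⁻¹ᵁ Q = ⊥ := le_bot_iff.1 fun z hz => (hz.2 ⟨z, rfl⟩).elim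
    haveI : Subsingleton Γ(G, ι ⁻¹ᵁ Q) := ⟨fun a b => AModX.eq_of_locally _ _ fun z hz => absurd (hbot.le hz) (by simp)⟩
    exact Subsingleton.elim (α := Γ(G, ι ⁻¹ᵁ Q)) _ _

/-- An epimorphism between bundles of the same rank on an integral curve is an isomorphism. -/
theorem isIso_of_epi (k : Type u) [Field k] {X : Scheme.{u}} [X.Over (Spec (CommRingCat.of k))] [IsIntegral X]
    [IsProper (X ↘ Spec (CommRingCat.of k))] [Smooth (X ↘ Spec (CommRingCat.of k))] (hdim : topologicalKrullDim X ≤ 1) {A B : X.Modules} {n : ℕ}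
    (hA : FlatMod.IsFinLocFreeOfRank n A) (hB : FlatMod.IsFinLocFreeOfRank n B) (c : A ⟶ B) [Epi c] : IsIso c := by
  haveI := CurveSlope.isLocallyNoetherian' k (X := X)
  have hAc := CurveStable.coh_of_free k (CurveStable.isFinLocFree_of_rank hA)
  have hBc := CurveStable.coh_of_free k (CurveStable.isFinLocFree_of_rank hB)
  have h := CurveSlope.rk_add_coh k _ _ _ (CurveSlope.shortExact_kernel_of_epi c) hAc
  rw [CurveBundle.rk_eq hA, CurveBundle.rk_eq hB] at h
  have hK := CurveBundle.isFinLocFree_of_mono k hdim (QCoh.isCoh_kernel hAc hBc c) (kernel.ι c)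
    (CurveStable.isFinLocFree_of_rank hA)
  haveI : Mono c := Preadditive.mono_of_isZero_kernel c (CurveBundle.isZero_of_rk_zero hK (by omega))
  exact isIso_of_mono_of_epi c

/-- Restriction of sheaf Hom of bundles to a curve in `P`. -/
theorem nonempty_pullback_hom (k : Type u) [Field k] {X : Scheme.{u}} [X.Over (Spec (CommRingCat.of k))] [IsIntegral X]
    [IsProper (X ↘ Spec (CommRingCat.of k))] [Smooth (X ↘ Spec (CommRingCat.of k))] (hdim : topologicalKrullDim X ≤ 1) (i : X ⟶ P) [IsClosedImmersion i]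
    {a b : ℕ} {E G : P.Modules} (hE : FlatMod.IsFinLocFreeOfRank a E) (hG : FlatMod.IsFinLocFreeOfRank b G) :
    Nonempty ((Scheme.Modules.pullback i).obj ((hom E).obj G) ≅
      (hom ((Scheme.Modules.pullback i).obj E)).obj ((Scheme.Modules.pullback i).obj G)) := by
  let adj := Scheme.Modules.pullbackPushforwardAdjunction i
  haveI : Epi (adj.unit.app G) := epi_unit i G
  haveI := AmpleVan.epi_hom_map (CurveStable.isFinLocFree_of_rank hE) (adj.unit.app G)
  let φ := (AmpleVan.pushHomIso i E).inv.app ((Scheme.Modules.pullback i).obj G)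
  let v : (hom E).obj G ⟶ (Scheme.Modules.pushforward i).obj
      ((hom ((Scheme.Modules.pullback i).obj E)).obj ((Scheme.Modules.pullback i).obj G)) :=
    (hom E).map (adj.unit.app G) ≫ φ
  haveI : IsIso φ := inferInstance
  haveI : Epi v := epi_comp _ _
  let c := (adj.homEquiv _ _).symm v
  have hv : adj.unit.app _ ≫ (Scheme.Modules.pushforward i).map c = v :=
    (adj.homEquiv_unit _ _ _).symm.trans ((adj.homEquiv _ _).apply_symm_apply v)
  haveI : Epi (adj.unit.app ((hom E).obj G) ≫ (Scheme.Modules.pushforward i).map c) := by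
    rw [hv]; infer_instance
  haveI : Epi ((Scheme.Modules.pushforward i).map c) :=
    epi_of_epi (adj.unit.app ((hom E).obj G)) _
  haveI : (Scheme.Modules.pushforward i).Faithful := AmpleVan.faithful_push i
  haveI : Epi c := (Scheme.Modules.pushforward i).epi_of_epi_map inferInstance
  haveI := isIso_of_epi k hdim (KRRReg.isFinLocFreeOfRank_pullback i (isFinLocFreeOfRank_hom hE hG))
    (isFinLocFreeOfRank_hom (KRRReg.isFinLocFreeOfRank_pullback i hE)
      (KRRReg.isFinLocFreeOfRank_pullback i hG)) c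
  exact ⟨asIso c⟩

end Groth.Agent.FamHom

end
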