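import Groth.Agent.FamHom.Pull
import Groth.Agent.PBC.Betti
import Groth.Agent.AVEuler.FibreRank
import Groth.Agent.FamEuler.Main
import Groth.Agent.CurveCohLib.Proper
import Groth.Prelude.Def_Curve
import Mathlib.AlgebraicGeometry.AlgClosed.Basic

/-!
# Families of stable bundles over a curve are separated
-/

set_option linter.style.haveILetI false
set_option linter.unusedSectionVars false
set_option backward.isDefEq.respectTransparency false
set_option backward.isDefEq.respectTransparency.types false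
set_option maxHeartbeats 800000

universe u

open CategoryTheory CategoryTheory.Limits AlgebraicGeometry TopologicalSpace Opposite

noncomputable section

namespace Groth.Agent.FamHom

open Groth.Agent

theorem isFlatOver_finLocFree {P S : Scheme.{u}} (f : P ⟶ S) [Flat f] {H : P.Modules}
    (hH : FlatMod.IsFinLocFree H) : FlatMod.IsFlatOver f H := fun x => by
  show FlatMod.IsFlatOverAt f H x
  unfold FlatMod.IsFlatOverAt
  letI := FlatMod.moduleStalkOver f H x
  letI : Algebra (S.presheaf.stalk (f.base x)) (P.presheaf.stalk x) := (f.stalkMap x).hom.toAlgebra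
  haveI : IsScalarTower (S.presheaf.stalk (f.base x)) (P.presheaf.stalk x) (H.presheaf.stalk x) :=
    IsScalarTower.of_algebraMap_smul fun _ _ => rfl
  haveI : Module.Flat (S.presheaf.stalk (f.base x)) (P.presheaf.stalk x) := Flat.stalkMap f x
  haveI := QCoh.free_stalk_of_isFinLocFree hH x
  exact Module.Flat.trans (S.presheaf.stalk (f.base x)) (P.presheaf.stalk x) (H.presheaf.stalk x)

variable {k : Type u} [Field k] {X : Scheme.{u}} [X.Over (Spec (CommRingCat.of k))]

/-- A section of a fibre inclusion gives a cartesian square. -/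
theorem isPullback_fibre {T : Scheme.{u}} (ρ : T ⟶ Spec (CommRingCat.of k)) {t : Spec (CommRingCat.of k) ⟶ T}
    (ht : t ≫ ρ = 𝟙 _) {j : X ⟶ pullback (X ↘ Spec (CommRingCat.of k)) ρ}
    (h1 : j ≫ pullback.fst _ _ = 𝟙 X) (h2 : j ≫ pullback.snd _ _ = (X ↘ Spec (CommRingCat.of k)) ≫ t) :
    IsPullback j (X ↘ Spec (CommRingCat.of k)) (pullback.snd (X ↘ Spec (CommRingCat.of k)) ρ) t := by
  refine IsPullback.of_right ?_ h2 (IsPullback.of_hasPullback (X ↘ Spec (CommRingCat.of k)) ρ)
  rw [h1, ht]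
  exact IsPullback.of_horiz_isIso ⟨by simp⟩

variable [IsProper (X ↘ Spec (CommRingCat.of k))]

/-- Nonzero sections of sheaf Hom and nonzero morphisms. -/
theorem finrank_hom_pos_iff {A B : X.Modules} (hA : FlatMod.IsFinLocFree A) (hB : FlatMod.IsFinLocFree B) :
    0 < Module.finrank k (Coh.HH X ((SheafHomX.hom A).obj B) 0) ↔ ∃ f : A ⟶ B, f ≠ 0 := by
  haveI : IsLocallyNoetherian X := LocallyOfFiniteType.isLocallyNoetherian (X ↘ Spec (CommRingCat.of k))
  haveI := CurveCohLib.finite_HH (k := k)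
    (CurveDeg.isCoh_of_isFinLocFree (SheafHomX.isFinLocFree_hom hA hB)) 0
  let e : Coh.HH X ((SheafHomX.hom A).obj B) 0 ≃ (A ⟶ B) :=
    (Equiv.ofBijective _ ⟨SheafHomX.cls_injective, SheafHomX.cls_surjective⟩).symm.trans (SheafHomX.ev A B).toEquiv
  rw [Module.finrank_pos_iff, e.nontrivial_congr]
  exact ⟨fun h => exists_ne 0, fun ⟨f, hf⟩ => ⟨f, 0, hf⟩⟩

/-- Two families of bundles on a curve, isomorphic away from a point, have nonzero maps and equal
degrees at that point. -/
theorem exists_hom_ne_zero [IsAlgClosed k] [IsIntegral X] [Smooth (X ↘ Spec (CommRingCat.of k))]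
    (hdim : topologicalKrullDim X ≤ 1) {T : Scheme.{u}} (ρ : T ⟶ Spec (CommRingCat.of k))
    [IsIntegral T] [LocallyOfFiniteType ρ] (hT : topologicalKrullDim T = 1)
    (t₀ : Spec (CommRingCat.of k) ⟶ T) (ht₀ : t₀ ≫ ρ = 𝟙 _) {r : ℕ} (hr : 0 < r)
    {E E' : (pullback (X ↘ Spec (CommRingCat.of k)) ρ).Modules}
    (hE : FlatMod.IsFinLocFreeOfRank r E) (hE' : FlatMod.IsFinLocFreeOfRank r E')
    (hiso : ∀ (t : Spec (CommRingCat.of k) ⟶ T) (j : X ⟶ pullback (X ↘ Spec (CommRingCat.of k)) ρ),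
      t ≫ ρ = 𝟙 _ → t ≠ t₀ → j ≫ pullback.fst _ _ = 𝟙 X →
      j ≫ pullback.snd _ _ = (X ↘ Spec (CommRingCat.of k)) ≫ t →
      Nonempty ((Scheme.Modules.pullback j).obj E ≅ (Scheme.Modules.pullback j).obj E'))
    (j₀ : X ⟶ pullback (X ↘ Spec (CommRingCat.of k)) ρ) (hj₀ : j₀ ≫ pullback.fst _ _ = 𝟙 X)
    (hj₀' : j₀ ≫ pullback.snd _ _ = (X ↘ Spec (CommRingCat.of k)) ≫ t₀) :
    (∃ f : (Scheme.Modules.pullback j₀).obj E ⟶ (Scheme.Modules.pullback j₀).obj E', f ≠ 0) ∧
      Curv2.euler k X ((Scheme.Modules.pullback j₀).obj E) = Curv2.euler k X ((Scheme.Modules.pullback j₀).obj E') := by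
  classical
  let p := pullback.snd (X ↘ Spec (CommRingCat.of k)) ρ
  haveI : IsLocallyNoetherian T := LocallyOfFiniteType.isLocallyNoetherian ρ
  haveI : IsLocallyNoetherian (pullback (X ↘ Spec (CommRingCat.of k)) ρ) := LocallyOfFiniteType.isLocallyNoetherian p
  let H := (SheafHomX.hom E).obj E'
  have hHf : FlatMod.IsFinLocFree H :=
    SheafHomX.isFinLocFree_hom (CurveStable.isFinLocFree_of_rank hE) (CurveStable.isFinLocFree_of_rank hE')
  have hopen : IsOpen {s : T | PerfAux.betti p H s 0 < 1} :=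
    PBC.isOpen_fiberRank_lt p H (QCoh.isFinLocFree_iff.1 hHf).1 (isFlatOver_finLocFree p hHf) 0 1
  have hrank : ∀ (t : Spec (CommRingCat.of k) ⟶ T), t ≫ ρ = 𝟙 _ →
      ∀ (j : X ⟶ pullback (X ↘ Spec (CommRingCat.of k)) ρ), j ≫ pullback.fst _ _ = 𝟙 X →
      j ≫ pullback.snd _ _ = (X ↘ Spec (CommRingCat.of k)) ≫ t →
      (PerfAux.betti p H (t (IsLocalRing.closedPoint k)) 0 =
        Module.finrank k (Coh.HH X ((SheafHomX.hom ((Scheme.Modules.pullback j).obj E)).obj
          ((Scheme.Modules.pullback j).obj E')) 0)) ∧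
      ∀ M : (pullback (X ↘ Spec (CommRingCat.of k)) ρ).Modules, Coh.IsQCoh M →
        FamEuler.fibreEuler p M (t (IsLocalRing.closedPoint k)) = Curv2.euler k X ((Scheme.Modules.pullback j).obj M) := by
    intro t ht j h1 h2
    have sq := isPullback_fibre ρ ht h1 h2
    haveI : IsClosedImmersion t := isClosedImmersion_of_comp_eq_id ρ t ht
    haveI : IsClosedImmersion j := MorphismProperty.of_isPullback sq.flip inferInstance
    obtain ⟨c⟩ := nonempty_pullback_hom k hdim j hE hE'
    refine ⟨?_, fun M hM => ?_⟩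
    · exact (AVEuler.fiberRank_eq_finrank sq ρ ht (CurveDeg.isCoh_of_isFinLocFree hHf).1 0).trans
        (HilbPoly.finrank_HH_iso k c 0)
    · refine finsum_congr fun n => ?_
      rw [AVEuler.fiberRank_eq_finrank sq ρ ht hM n]
  let x₀ : T := t₀ (IsLocalRing.closedPoint k)
  have hx₀ : IsClosed ({x₀} : Set T) := ((pointEquivClosedPoint ρ) ⟨t₀, ht₀⟩).2
  haveI : JacobsonSpace T := LocallyOfFiniteType.jacobsonSpace ρ
  -- every nonempty open has another closed point
  have hmeet : ∀ U : Set T, IsOpen U → U.Nonempty → ∃ x ∈ U, IsClosed ({x} : Set T) ∧ x ≠ x₀ := by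
    intro U hU hne
    have hne' : (U ∩ {x₀}ᶜ).Nonempty := by
      by_contra h
      have hsub : ∀ x ∈ U, x = x₀ := fun x hx => by
        by_contra hx'
        exact h ⟨x, hx, hx'⟩
      have hgen : genericPoint T = x₀ :=
        hsub _ ((genericPoint_spec T).mem_open_set_iff hU |>.2 (by rw [Set.univ_inter]; exact hne))
      have huniv : ({x₀} : Set T) = Set.univ := by
        rw [← hx₀.closure_eq, ← hgen, (genericPoint_spec T).def]
      haveI : Subsingleton T := Set.subsingleton_univ_iff.1 (huniv ▸ Set.subsingleton_singleton)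
      have := (topologicalKrullDim_zero_of_discreteTopology T)
      rw [hT] at this
      exact absurd this (by norm_num)
    obtain ⟨x, ⟨hxU, hx⟩, hxc⟩ := nonempty_inter_closedPoints hne' (hU.inter hx₀.isOpen_compl).isLocallyClosed
    exact ⟨x, hxU, hxc, hx⟩
  have hother : ∀ x : T, IsClosed ({x} : Set T) → x ≠ x₀ →
      ∃ (t : Spec (CommRingCat.of k) ⟶ T) (j : X ⟶ pullback (X ↘ Spec (CommRingCat.of k)) ρ),
        t (IsLocalRing.closedPoint k) = x ∧ t ≫ ρ = 𝟙 _ ∧ j ≫ pullback.fst _ _ = 𝟙 X ∧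
        j ≫ pullback.snd _ _ = (X ↘ Spec (CommRingCat.of k)) ≫ t ∧
        Nonempty ((Scheme.Modules.pullback j).obj E ≅ (Scheme.Modules.pullback j).obj E') := by
    intro x hx hne
    let t := pointOfClosedPoint ρ x hx
    have ht : t ≫ ρ = 𝟙 _ := pointOfClosedPoint_comp ρ x hx
    have htx : t (IsLocalRing.closedPoint k) = x := pointOfClosedPoint_apply ρ x hx _
    let j : X ⟶ pullback (X ↘ Spec (CommRingCat.of k)) ρ := pullback.lift (𝟙 X) ((X ↘ Spec (CommRingCat.of k)) ≫ t)
      (by rw [Category.id_comp, Category.assoc, ht, Category.comp_id])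
    refine ⟨t, j, htx, ht, pullback.lift_fst _ _ _, pullback.lift_snd _ _ _,
      hiso t j ht (fun h => hne ?_) (pullback.lift_fst _ _ _) (pullback.lift_snd _ _ _)⟩
    rw [← htx, h]
  obtain ⟨h₀, he₀⟩ := hrank t₀ ht₀ j₀ hj₀ hj₀'
  have hEq₀ := KRRReg.isFinLocFreeOfRank_pullback j₀ hE
  have hEq₀' := KRRReg.isFinLocFreeOfRank_pullback j₀ hE'
  refine ⟨(finrank_hom_pos_iff (k := k) (CurveStable.isFinLocFree_of_rank hEq₀)
      (CurveStable.isFinLocFree_of_rank hEq₀')).1 ?_, ?_⟩
  · by_contra hz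
    obtain ⟨x, hxU, hxc, hxne⟩ := hmeet _ hopen ⟨x₀, by show PerfAux.betti p H x₀ 0 < 1; rw [h₀]; omega⟩
    obtain ⟨t, j, rfl, ht, h1, h2, ⟨φ⟩⟩ := hother x hxc hxne
    have hφ : φ.hom ≠ 0 := fun h0 => by
      have hz : IsZero ((Scheme.Modules.pullback j).obj E) := by
        rw [IsZero.iff_id_eq_zero, ← φ.hom_inv_id, h0, zero_comp]
      have := CurveSlope.rk_eq_zero_of_isZero hz
      rw [CurveBundle.rk_eq (KRRReg.isFinLocFreeOfRank_pullback j hE)] at this
      omega
    have hpos := (finrank_hom_pos_iff (k := k)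
      (CurveStable.isFinLocFree_of_rank (KRRReg.isFinLocFreeOfRank_pullback j hE))
      (CurveStable.isFinLocFree_of_rank (KRRReg.isFinLocFreeOfRank_pullback j hE'))).2 ⟨φ.hom, hφ⟩
    have hlt : PerfAux.betti p H (t (IsLocalRing.closedPoint k)) 0 < 1 := hxU
    rw [(hrank t ht j h1 h2).1] at hlt
    omega
  · obtain ⟨x, -, hxc, hxne⟩ := hmeet Set.univ isOpen_univ ⟨x₀, trivial⟩
    obtain ⟨t, j, rfl, ht, h1, h2, ⟨φ⟩⟩ := hother x hxc hxne
    have hc : ∀ {M : (pullback (X ↘ Spec (CommRingCat.of k)) ρ).Modules}, FlatMod.IsFinLocFree M →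
        Curv2.euler k X ((Scheme.Modules.pullback j₀).obj M) = Curv2.euler k X ((Scheme.Modules.pullback j).obj M) := by
      intro M hM
      have hMc := CurveDeg.isCoh_of_isFinLocFree hM
      rw [← he₀ M hMc.1, ← (hrank t ht j h1 h2).2 M hMc.1]
      exact (FamEuler.isLocallyConstant_fibreEuler p M hMc (isFlatOver_finLocFree p hM)).apply_eq_of_isPreconnected
        isPreconnected_univ trivial trivial
    rw [hc (CurveStable.isFinLocFree_of_rank hE), hc (CurveStable.isFinLocFree_of_rank hE'),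
      Euler.euler_congr k φ]

end Groth.Agent.FamHom

end
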